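import Mathlib.LinearAlgebra.Matrix.Rank
import Mathlib.LinearAlgebra.Dimension.Constructions
import Mathlib.LinearAlgebra.Matrix.GeneralLinearGroup.Defs

set_option autoImplicit false

/-!
Families of orthogonal idempotent matrices summing to one, up to conjugation.
-/

noncomputable section

universe u

open Matrix

namespace Groth.Agent.DiagRep

variable {k : Type u} [CommRing k] {m : ℕ} {M : Type} [Fintype M] [DecidableEq M]

/-- Orthogonal idempotents summing to one. -/
structure IsProj (P : M → Matrix (Fin m) (Fin m) k) : Prop where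
  mul : ∀ a b, P a * P b = if a = b then P a else 0
  sum : ∑ a, P a = 1

theorem IsProj.map {P : M → Matrix (Fin m) (Fin m) k} (hP : IsProj P) {K : Type u} [CommRing K] (f : k →+* K) :
    IsProj fun a => f.mapMatrix (P a) where
  mul a b := by
    rw [← map_mul, hP.mul]; split_ifs with h
    · rfl
    · exact map_zero _
  sum := by rw [← map_sum, hP.sum, map_one]

/-- The diagonal family attached to a labelling of the coordinates. -/
def diagFam (k : Type u) [CommRing k] (f : Fin m → M) (a : M) : Matrix (Fin m) (Fin m) k :=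
  Matrix.diagonal fun i => if f i = a then 1 else 0

theorem isProj_diagFam (f : Fin m → M) : IsProj (diagFam k f) where
  mul a b := by
    rw [diagFam, diagFam, Matrix.diagonal_mul_diagonal]
    split_ifs with h
    · subst h; congr 1; funext i; split_ifs <;> simp
    · rw [← Matrix.diagonal_zero]; congr 1; funext i
      split_ifs with h1 h2
      · exact absurd (h1.symm.trans h2) h
      all_goals simp
  sum := by
    ext i j
    rw [Matrix.sum_apply]
    simp only [diagFam, Matrix.diagonal_apply, Matrix.one_apply]
    by_cases h : i = j <;> simp [h]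

theorem diagFam_map {K : Type u} [CommRing K] (g : k →+* K) (f : Fin m → M) (a : M) :
    g.mapMatrix (diagFam k f a) = diagFam K f a := by
  ext i j
  simp only [RingHom.mapMatrix_apply, Matrix.map_apply, diagFam, Matrix.diagonal_apply]
  split_ifs <;> simp

section Field

variable {F : Type u} [Field F]

theorem rank_diagFam (f : Fin m → M) (a : M) :
    (diagFam F f a).rank = Fintype.card {i // f i = a} := by
  classical
  rw [diagFam, Matrix.rank_diagonal]
  exact Fintype.card_congr (Equiv.subtypeEquivRight fun i => by simp)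

/-- Splitting of the column space. -/
theorem exists_split {P : M → Matrix (Fin m) (Fin m) F} (hP : IsProj P) :
    ∃ e : (Fin m → F) ≃ₗ[F] ((a : M) → LinearMap.range (P a).mulVecLin),
      ∀ v a, (e v a : Fin m → F) = P a *ᵥ v := by
  refine ⟨LinearEquiv.ofLinear (LinearMap.pi fun a => (P a).mulVecLin.rangeRestrict)
    (∑ a, (LinearMap.range (P a).mulVecLin).subtype.comp (LinearMap.proj a)) ?_ ?_, fun v a => rfl⟩
  · apply LinearMap.ext
    intro w
    funext a
    apply Subtype.ext
    simp only [LinearMap.comp_apply, LinearMap.sum_apply, LinearMap.pi_apply, LinearMap.rangeRestrict, LinearMap.codRestrict_apply,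
      LinearMap.proj_apply, Submodule.coe_subtype, Matrix.mulVecLin_apply, LinearMap.id_apply, Matrix.mulVec_sum]
    have key : ∀ b, P a *ᵥ (w b : Fin m → F) = if a = b then (w b : Fin m → F) else 0 := by
      intro b
      obtain ⟨u, hu⟩ := (w b).2
      rw [← hu, Matrix.mulVecLin_apply, Matrix.mulVec_mulVec, hP.mul]
      split_ifs with h
      · rw [h]
      · exact Matrix.zero_mulVec u
    simp only [key, Finset.sum_ite_eq, Finset.mem_univ, if_true]
  · apply LinearMap.ext
    intro v
    simp only [LinearMap.comp_apply, LinearMap.sum_apply, LinearMap.pi_apply, LinearMap.rangeRestrict, LinearMap.codRestrict_apply,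
      LinearMap.proj_apply, Submodule.coe_subtype, Matrix.mulVecLin_apply, LinearMap.id_apply]
    rw [← Matrix.sum_mulVec, hP.sum, Matrix.one_mulVec]

theorem sum_rank {P : M → Matrix (Fin m) (Fin m) F} (hP : IsProj P) : ∑ a, (P a).rank = m := by
  obtain ⟨e, -⟩ := exists_split hP
  have h := e.finrank_eq
  rw [Module.finrank_fintype_fun_eq_card, Fintype.card_fin, Module.finrank_pi_fintype] at h
  exact h.symm

/-- Families with the same ranks are conjugate. -/
theorem exists_conj {P Q : M → Matrix (Fin m) (Fin m) F} (hP : IsProj P) (hQ : IsProj Q)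
    (h : ∀ a, (P a).rank = (Q a).rank) :
    ∃ G : Matrix (Fin m) (Fin m) F, IsUnit G.det ∧ ∀ a, G * P a = Q a * G := by
  obtain ⟨eP, heP⟩ := exists_split hP
  obtain ⟨eQ, heQ⟩ := exists_split hQ
  have L : ∀ a, LinearMap.range (P a).mulVecLin ≃ₗ[F] LinearMap.range (Q a).mulVecLin := fun a =>
    LinearEquiv.ofFinrankEq _ _ (h a)
  let g : (Fin m → F) ≃ₗ[F] (Fin m → F) := eP ≪≫ₗ LinearEquiv.piCongrRight L ≪≫ₗ eQ.symm
  refine ⟨LinearMap.toMatrix' g.toLinearMap, ?_, fun a => ?_⟩
  · refine Matrix.isUnit_det_of_right_inverse (B := LinearMap.toMatrix' g.symm.toLinearMap) ?_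
    rw [← LinearMap.toMatrix'_comp, LinearEquiv.comp_symm]
    exact LinearMap.toMatrix'_id
  · apply Matrix.toLin'.injective
    apply LinearMap.ext
    intro v
    simp only [Matrix.toLin'_mul, Matrix.toLin'_toMatrix', LinearMap.comp_apply, Matrix.toLin'_apply]
    show g (P a *ᵥ v) = Q a *ᵥ g v
    apply eQ.injective
    have hg : ∀ x, eQ (g x) = fun b => L b (eP x b) := by
      intro x
      simp only [g, LinearEquiv.trans_apply, LinearEquiv.apply_symm_apply]
      rfl
    have aux : ∀ {P : M → Matrix (Fin m) (Fin m) F} (hP : IsProj P)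
        (e : (Fin m → F) ≃ₗ[F] ((a : M) → LinearMap.range (P a).mulVecLin))
        (_ : ∀ v a, (e v a : Fin m → F) = P a *ᵥ v) (x : Fin m → F) (b : M),
        e (P a *ᵥ x) b = if b = a then e x b else 0 := by
      intro P hP e he x b
      apply Subtype.ext
      rw [he, Matrix.mulVec_mulVec, hP.mul]
      split_ifs with hb
      · rw [he]
      · rw [Matrix.zero_mulVec]; rfl
    funext b
    rw [hg, aux hQ eQ heQ, hg]
    simp only
    rw [aux hP eP heP]
    split_ifs with hb
    · rfl
    · exact map_zero _

theorem exists_label {P : M → Matrix (Fin m) (Fin m) F} (hP : IsProj P) :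
    ∃ f : Fin m → M, ∀ a, (diagFam F f a).rank = (P a).rank := by
  have hc : Fintype.card (Σ a : M, Fin (P a).rank) = m := by simpa using sum_rank hP
  refine ⟨fun i => ((Fintype.equivFinOfCardEq hc).symm i).1, fun a => ?_⟩
  rw [rank_diagFam]
  calc Fintype.card {i : Fin m // ((Fintype.equivFinOfCardEq hc).symm i).1 = a}
      = Fintype.card {x : (Σ a : M, Fin (P a).rank) // x.1 = a} :=
        Fintype.card_congr (Equiv.subtypeEquiv (Fintype.equivFinOfCardEq hc).symm fun i => Iff.rfl)
    _ = (P a).rank := by
      rw [Fintype.card_congr (Equiv.sigmaSubtype a), Fintype.card_fin]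

theorem rank_map_of_isProj {P : M → Matrix (Fin m) (Fin m) F} (hP : IsProj P) {K : Type u} [Field K]
    (g : F →+* K) (a : M) : (g.mapMatrix (P a)).rank = (P a).rank := by
  obtain ⟨f, hf⟩ := exists_label hP
  obtain ⟨G, hG, hconj⟩ := exists_conj hP (isProj_diagFam f) fun a => (hf a).symm
  have hG' : IsUnit (g.mapMatrix G).det := by rw [← RingHom.map_det]; exact hG.map g
  have e := congrArg g.mapMatrix (hconj a)
  rw [map_mul, map_mul, diagFam_map] at e
  calc (g.mapMatrix (P a)).rank = (g.mapMatrix G * g.mapMatrix (P a)).rank :=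
        (rank_mul_eq_right_of_isUnit_det _ _ hG').symm
    _ = (diagFam K f a).rank := by rw [e, rank_mul_eq_left_of_isUnit_det _ _ hG']
    _ = (diagFam F f a).rank := by rw [rank_diagFam, rank_diagFam]
    _ = (P a).rank := hf a

/-- Conjugate over an extension implies conjugate. -/
theorem exists_conj_of_map {P Q : M → Matrix (Fin m) (Fin m) F} (hP : IsProj P) (hQ : IsProj Q)
    {K : Type u} [Field K] (g : F →+* K) (G : Matrix (Fin m) (Fin m) K) (hG : IsUnit G.det)
    (h : ∀ a, G * g.mapMatrix (P a) = g.mapMatrix (Q a) * G) :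
    ∃ G₀ : Matrix (Fin m) (Fin m) F, IsUnit G₀.det ∧ ∀ a, G₀ * P a = Q a * G₀ := by
  refine exists_conj hP hQ fun a => ?_
  rw [← rank_map_of_isProj hP g a, ← rank_map_of_isProj hQ g a,
    ← rank_mul_eq_right_of_isUnit_det G (g.mapMatrix (P a)) hG, h a, rank_mul_eq_left_of_isUnit_det _ _ hG]

/-- Every family is conjugate, over the field itself, to one defined over any subfield. -/
theorem exists_conj_diag {P : M → Matrix (Fin m) (Fin m) F} (hP : IsProj P) :
    ∃ (f : Fin m → M) (G : Matrix (Fin m) (Fin m) F), IsUnit G.det ∧ ∀ a, G * P a = diagFam F f a * G := by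
  obtain ⟨f, hf⟩ := exists_label hP
  exact ⟨f, exists_conj hP (isProj_diagFam f) fun a => (hf a).symm⟩

end Field

end Groth.Agent.DiagRep
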