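import Groth.Prelude.Def_GLin4
import Groth.Agent.DiagRepLib.Proj
import Mathlib.RingTheory.Coalgebra.TensorProduct
import Mathlib.RingTheory.Bialgebra.TensorProduct
import Mathlib.RingTheory.TensorProduct.Free

set_option autoImplicit false

/-!
Coordinate rings of general linear groups and of finite diagonalisable groups, described by generators.
-/

noncomputable section

universe u

open Matrix WithConv
open scoped TensorProduct

namespace Groth.Agent.DiagRep

variable {k : Type u} [CommRing k] {m : ℕ} {A : Type u} [CommRing A] [Bialgebra k A]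

/-- A matrix of functions generating a bialgebra like the one of the general linear group. -/
structure GLCoords (k : Type u) [CommRing k] (m : ℕ) (A : Type u) [CommRing A] [Bialgebra k A] where
  X : Matrix (Fin m) (Fin m) A
  comul : (Bialgebra.comulAlgHom k A).mapMatrix X =
    (Algebra.TensorProduct.includeLeft : A →ₐ[k] A ⊗[k] A).mapMatrix X *
      (Algebra.TensorProduct.includeRight : A →ₐ[k] A ⊗[k] A).mapMatrix X
  counit : (Bialgebra.counitAlgHom k A).mapMatrix X = 1
  unit : IsUnit X.det
  ext : ∀ {B : Type u} [CommRing B] [Algebra k B] (f g : A →ₐ[k] B), f.mapMatrix X = g.mapMatrix X → f = g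
  lift : ∀ {B : Type u} [CommRing B] [Algebra k B] (N : Matrix (Fin m) (Fin m) B), IsUnit N.det →
    ∃ f : A →ₐ[k] B, f.mapMatrix X = N

/-- The general linear group. -/
def glnCoords (k : Type u) [CommRing k] (m : ℕ) : GLCoords k m (CoordGrp.GLn m k) where
  X := CoordGrp.GLn.genMat m k
  comul := by
    ext i j
    rw [Matrix.mul_apply]
    simp only [AlgHom.mapMatrix_apply, Matrix.map_apply, CoordGrp.GLn.genMat]
    rw [Bialgebra.comulAlgHom_apply, CoordGrp.GLn.comul_X]
    refine Finset.sum_congr rfl fun l _ => ?_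
    simp
  counit := by
    ext i j
    simp only [AlgHom.mapMatrix_apply, Matrix.map_apply, CoordGrp.GLn.genMat, Matrix.one_apply]
    exact CoordGrp.GLn.counit_X i j
  unit := by
    rw [← CoordGrp.GLn.det_eq]
    exact IsUnit.of_mul_eq_one _ CoordGrp.GLn.det_mul_Dinv
  ext f g h := by
    have hX : ∀ i j, f (CoordGrp.GLn.X i j) = g (CoordGrp.GLn.X i j) := fun i j => congrFun (congrFun h i) j
    refine CoordGrp.GLn.algHom_ext hX ?_
    have hd : f CoordGrp.GLn.det = g CoordGrp.GLn.det := by
      rw [CoordGrp.GLn.det_eq, AlgHom.map_det, AlgHom.map_det, h]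
    calc f CoordGrp.GLn.Dinv = f CoordGrp.GLn.Dinv * (g CoordGrp.GLn.det * g CoordGrp.GLn.Dinv) := by
          rw [← map_mul, CoordGrp.GLn.det_mul_Dinv, map_one, mul_one]
      _ = g CoordGrp.GLn.Dinv := by
          rw [← mul_assoc, ← hd, ← map_mul, CoordGrp.GLn.Dinv_mul_det, map_one, one_mul]
  lift N hN := by
    obtain ⟨d, hd⟩ := hN.exists_right_inv
    exact ⟨CoordGrp.GLn.pt m k N d hd, Matrix.ext fun i j => CoordGrp.GLn.pt_X N d hd i j⟩

/-- Base change of coordinates. -/
def GLCoords.bc (X : GLCoords k m A) (K : Type u) [CommRing K] [Algebra k K] : GLCoords K m (K ⊗[k] A) where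
  X := (Algebra.TensorProduct.includeRight : A →ₐ[k] K ⊗[k] A).mapMatrix X.X
  comul := by
    ext i j
    have h := congrFun (congrFun X.comul i) j
    rw [Matrix.mul_apply] at h ⊢
    simp only [AlgHom.mapMatrix_apply, Matrix.map_apply, Bialgebra.comulAlgHom_apply] at h ⊢
    simp only [Algebra.TensorProduct.includeRight_apply, TensorProduct.comul_tmul, CommSemiring.comul_apply, h,
      TensorProduct.tmul_sum, map_sum]
    refine Finset.sum_congr rfl fun l _ => ?_
    simp [Algebra.TensorProduct.tmul_mul_tmul, Algebra.TensorProduct.one_def,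
      TensorProduct.AlgebraTensorModule.tensorTensorTensorComm_tmul]
  counit := by
    ext i j
    have h := congrFun (congrFun X.counit i) j
    simp only [AlgHom.mapMatrix_apply, Matrix.map_apply, Bialgebra.counitAlgHom_apply, Matrix.one_apply] at h ⊢
    simp only [Algebra.TensorProduct.includeRight_apply, TensorProduct.counit_tmul, CommSemiring.counit_apply, h]
    split_ifs <;> simp
  unit := by
    rw [← AlgHom.map_det]
    exact X.unit.map _
  ext {B} _ _ f g h := by
    letI := Algebra.compHom B (algebraMap k K)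
    haveI : IsScalarTower k K B := IsScalarTower.of_algebraMap_eq fun _ => rfl
    apply Algebra.TensorProduct.ext
    · ext
    · refine X.ext _ _ ?_
      ext i j
      exact congrFun (congrFun h i) j
  lift {B} _ _ N hN := by
    letI := Algebra.compHom B (algebraMap k K)
    haveI : IsScalarTower k K B := IsScalarTower.of_algebraMap_eq fun _ => rfl
    obtain ⟨f, hf⟩ := X.lift N hN
    refine ⟨Algebra.TensorProduct.lift (Algebra.ofId K B) f fun _ _ => Commute.all _ _, ?_⟩
    rw [← hf]
    ext i j
    simp

theorem mapMatrix_comp {B C : Type u} [CommRing B] [Algebra k B] [CommRing C] [Algebra k C] (f : A →ₐ[k] B)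
    (g : B →ₐ[k] C) (X : Matrix (Fin m) (Fin m) A) : (g.comp f).mapMatrix X = g.mapMatrix (f.mapMatrix X) := rfl

/-- Convolution is matrix multiplication. -/
theorem GLCoords.conv (X : GLCoords k m A) {B : Type u} [CommRing B] [Algebra k B] (f g : WithConv (A →ₐ[k] B)) :
    (f * g).ofConv.mapMatrix X.X = f.ofConv.mapMatrix X.X * g.ofConv.mapMatrix X.X := by
  let L : A ⊗[k] A →ₐ[k] B := Algebra.TensorProduct.lift f.ofConv g.ofConv fun _ _ => Commute.all _ _
  have e : (f * g).ofConv = L.comp (Bialgebra.comulAlgHom k A) := by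
    apply AlgHom.ext; intro x
    show (f * g) x = L (CoalgebraStruct.comul x)
    exact AlgHom.convMul_apply _ _ _
  have e1 : L.comp Algebra.TensorProduct.includeLeft = f.ofConv :=
    Algebra.TensorProduct.lift_comp_includeLeft _ _ _
  have e2 : L.comp Algebra.TensorProduct.includeRight = g.ofConv := by
    ext x; simp [L]
  rw [e, mapMatrix_comp, X.comul, map_mul, ← mapMatrix_comp, ← mapMatrix_comp, e1, e2]

/-- A basis of group-like elements multiplying like a group. -/
structure GLBasis (k : Type u) [CommRing k] (M : Type) [AddCommGroup M] (C : Type u) [CommRing C] [Bialgebra k C]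
    where
  e : Module.Basis M k C
  e_zero : e 0 = 1
  e_mul : ∀ a b, e a * e b = e (a + b)
  comul_e : ∀ a, CoalgebraStruct.comul (R := k) (e a) = e a ⊗ₜ[k] e a
  counit_e : ∀ a, CoalgebraStruct.counit (R := k) (e a) = 1

variable {M : Type} [AddCommGroup M] {C : Type u} [CommRing C] [Bialgebra k C]

/-- The standard group algebra. -/
def monoidAlgebraBasis (k : Type u) [CommRing k] (M : Type) [AddCommGroup M] :
    GLBasis k M (MonoidAlgebra k (Multiplicative M)) where
  e := (MonoidAlgebra.basis (Multiplicative M) k).reindex Multiplicative.toAdd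
  e_zero := by simp [MonoidAlgebra.one_def]
  e_mul a b := by simp [MonoidAlgebra.single_mul_single]
  comul_e a := by simp
  counit_e a := by simp

/-- Base change of a group-like basis. -/
def GLBasis.bc (E : GLBasis k M C) (K : Type u) [CommRing K] [Algebra k K] : GLBasis K M (K ⊗[k] C) where
  e := Algebra.TensorProduct.basis K E.e
  e_zero := by rw [Algebra.TensorProduct.basis_apply, E.e_zero]; rfl
  e_mul a b := by
    simp only [Algebra.TensorProduct.basis_apply, Algebra.TensorProduct.tmul_mul_tmul, one_mul, E.e_mul]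
  comul_e a := by
    simp only [Algebra.TensorProduct.basis_apply, TensorProduct.comul_tmul, CommSemiring.comul_apply, E.comul_e,
      TensorProduct.AlgebraTensorModule.tensorTensorTensorComm_tmul]
  counit_e a := by
    simp only [Algebra.TensorProduct.basis_apply, TensorProduct.counit_tmul, CommSemiring.counit_apply, E.counit_e,
      one_smul]

variable [Fintype M] [DecidableEq M]

/-- The matrix with given coefficients. -/
def GLBasis.toMat (E : GLBasis k M C) (P : M → Matrix (Fin m) (Fin m) k) : Matrix (Fin m) (Fin m) C :=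
  ∑ a, E.e a • (algebraMap k C).mapMatrix (P a)

theorem GLBasis.toMat_apply (E : GLBasis k M C) (P : M → Matrix (Fin m) (Fin m) k) (i j : Fin m) :
    E.toMat P i j = ∑ a, P a i j • E.e a := by
  simp only [GLBasis.toMat, Matrix.sum_apply, Matrix.smul_apply, RingHom.mapMatrix_apply, Matrix.map_apply]
  exact Finset.sum_congr rfl fun a _ => by rw [smul_eq_mul, Algebra.smul_def, mul_comm]

theorem GLBasis.repr_toMat (E : GLBasis k M C) (P : M → Matrix (Fin m) (Fin m) k) (i j : Fin m) (a : M) :
    E.e.repr (E.toMat P i j) a = P a i j := by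
  rw [E.toMat_apply, ← Module.Basis.equivFun_symm_apply, ← Module.Basis.equivFun_apply, LinearEquiv.apply_symm_apply]

theorem GLBasis.toMat_injective (E : GLBasis k M C) :
    Function.Injective (E.toMat (m := m)) := by
  intro P Q h
  funext a
  ext i j
  rw [← E.repr_toMat P, ← E.repr_toMat Q, h]

theorem GLBasis.exists_toMat (E : GLBasis k M C) (N : Matrix (Fin m) (Fin m) C) : ∃ P, E.toMat P = N := by
  refine ⟨fun a => Matrix.of fun i j => E.e.repr (N i j) a, ?_⟩
  ext i j
  rw [E.toMat_apply]
  exact E.e.sum_repr (N i j)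

theorem GLBasis.toMat_mul (E : GLBasis k M C) (P : M → Matrix (Fin m) (Fin m) k)
    (G : Matrix (Fin m) (Fin m) k) :
    E.toMat P * (algebraMap k C).mapMatrix G = E.toMat fun a => P a * G := by
  simp only [GLBasis.toMat, Finset.sum_mul, smul_mul_assoc, map_mul]

theorem GLBasis.mul_toMat (E : GLBasis k M C) (P : M → Matrix (Fin m) (Fin m) k)
    (G : Matrix (Fin m) (Fin m) k) :
    (algebraMap k C).mapMatrix G * E.toMat P = E.toMat fun a => G * P a := by
  simp only [GLBasis.toMat, Finset.mul_sum, mul_smul_comm, map_mul]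

theorem GLBasis.map_toMat (E : GLBasis k M C) (P : M → Matrix (Fin m) (Fin m) k) {B : Type u} [CommRing B]
    [Algebra k B] (f : C →ₐ[k] B) :
    f.mapMatrix (E.toMat P) = ∑ a, f (E.e a) • (algebraMap k B).mapMatrix (P a) := by
  ext i j
  simp [GLBasis.toMat, Matrix.sum_apply]

theorem GLBasis.isUnit_toMat (E : GLBasis k M C) {P : M → Matrix (Fin m) (Fin m) k} (hP : IsProj P) :
    IsUnit (E.toMat P).det := by
  refine Matrix.isUnit_det_of_right_inverse (B := ∑ b, E.e (-b) • (algebraMap k C).mapMatrix (P b)) ?_
  rw [GLBasis.toMat, Finset.sum_mul_sum]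
  simp only [smul_mul_smul_comm, ← map_mul, hP.mul, E.e_mul, apply_ite ((algebraMap k C).mapMatrix), map_zero,
    smul_ite, smul_zero, Finset.sum_ite_eq, Finset.mem_univ, if_true, add_neg_cancel, E.e_zero, one_smul]
  rw [← map_sum, hP.sum, map_one]

theorem GLBasis.counit_toMat (E : GLBasis k M C) (P : M → Matrix (Fin m) (Fin m) k) :
    (Bialgebra.counitAlgHom k C).mapMatrix (E.toMat P) = ∑ a, P a := by
  rw [E.map_toMat]
  refine Finset.sum_congr rfl fun a _ => ?_
  rw [Bialgebra.counitAlgHom_apply, E.counit_e, one_smul, Algebra.algebraMap_self, RingHom.mapMatrix_apply]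
  exact Matrix.map_id _

/-- The comultiplication is multiplicative exactly for orthogonal idempotents. -/
theorem GLBasis.comul_toMat_iff (E : GLBasis k M C) (P : M → Matrix (Fin m) (Fin m) k) :
    (Bialgebra.comulAlgHom k C).mapMatrix (E.toMat P) =
      (Algebra.TensorProduct.includeLeft : C →ₐ[k] C ⊗[k] C).mapMatrix (E.toMat P) *
        (Algebra.TensorProduct.includeRight : C →ₐ[k] C ⊗[k] C).mapMatrix (E.toMat P) ↔
    ∀ a b, P a * P b = if a = b then P a else 0 := by
  classical
  have l : ∀ i j, (Bialgebra.comulAlgHom k C).mapMatrix (E.toMat P) i j =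
      ∑ p : M × M, (if p.1 = p.2 then P p.1 i j else 0) • (E.e p.1 ⊗ₜ[k] E.e p.2) := by
    intro i j
    rw [Fintype.sum_prod_type]
    simp [AlgHom.mapMatrix_apply, E.toMat_apply, E.comul_e, ite_smul, Finset.sum_ite_eq]
  have r : ∀ i j, ((Algebra.TensorProduct.includeLeft : C →ₐ[k] C ⊗[k] C).mapMatrix (E.toMat P) *
      (Algebra.TensorProduct.includeRight : C →ₐ[k] C ⊗[k] C).mapMatrix (E.toMat P)) i j =
      ∑ p : M × M, (P p.1 * P p.2) i j • (E.e p.1 ⊗ₜ[k] E.e p.2) := by
    intro i j
    rw [E.map_toMat, E.map_toMat, Finset.sum_mul_sum, Fintype.sum_prod_type, Matrix.sum_apply]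
    refine Finset.sum_congr rfl fun a _ => ?_
    rw [Matrix.sum_apply]
    refine Finset.sum_congr rfl fun b _ => ?_
    rw [smul_mul_smul_comm, Matrix.smul_apply, Algebra.TensorProduct.includeLeft_apply,
      Algebra.TensorProduct.includeRight_apply, Algebra.TensorProduct.tmul_mul_tmul, mul_one, one_mul, ← map_mul,
      RingHom.mapMatrix_apply, Matrix.map_apply, smul_eq_mul, Algebra.smul_def, mul_comm]
  let B := E.e.tensorProduct E.e
  constructor
  · intro h a b
    ext i j
    have e := congrFun (congrFun h i) j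
    rw [l, r] at e
    have e' := DFunLike.congr_fun (congrArg B.repr e) (a, b)
    simp only [B, ← Module.Basis.tensorProduct_apply] at e'
    rw [map_sum, map_sum] at e'
    simp only [map_smul, Module.Basis.repr_self, Finsupp.smul_single, smul_eq_mul, mul_one,
      Finsupp.coe_finsetSum, Finset.sum_apply, Finsupp.single_apply, Finset.sum_ite_eq', Finset.mem_univ,
      if_true] at e'
    rw [← e']
    split_ifs <;> simp_all
  · intro h
    ext i j
    rw [l, r]
    refine Finset.sum_congr rfl fun p _ => ?_
    rw [h]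
    split_ifs <;> simp

/-- Group-like elements of a finite diagonalisable group over a domain. -/
theorem GLBasis.exists_of_groupLike [IsDomain k] (E : GLBasis k M C) (x : C)
    (h₁ : CoalgebraStruct.comul (R := k) x = x ⊗ₜ[k] x) (h₂ : CoalgebraStruct.counit (R := k) x = 1) :
    ∃ a, x = E.e a := by
  classical
  let P : M → Matrix (Fin 1) (Fin 1) k := fun a => Matrix.of fun _ _ => E.e.repr x a
  have hx : ∀ i j : Fin 1, E.toMat P i j = x := fun i j => by
    rw [E.toMat_apply]; exact E.e.sum_repr x
  have hP := (E.comul_toMat_iff P).1 (by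
    ext i j
    simp [Matrix.mul_apply, hx, h₁])
  have hs : ∑ a, E.e.repr x a = 1 := by
    have h := congrFun (congrFun (E.counit_toMat P) 0) 0
    rw [AlgHom.mapMatrix_apply, Matrix.map_apply, hx, Bialgebra.counitAlgHom_apply, h₂, Matrix.sum_apply] at h
    exact h.symm
  obtain ⟨a, -, ha⟩ := Finset.exists_ne_zero_of_sum_ne_zero (by rw [hs]; exact one_ne_zero)
  have hab : ∀ b, E.e.repr x a * E.e.repr x b = if a = b then E.e.repr x a else 0 := by
    intro b
    have h := congrFun (congrFun (hP a b) 0) 0
    simp only [Matrix.mul_apply, Fin.sum_univ_one, P, Matrix.of_apply] at h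
    rw [h]; split_ifs <;> simp [P]
  refine ⟨a, E.e.ext_elem fun b => ?_⟩
  rw [Module.Basis.repr_self, Finsupp.single_apply]
  apply mul_left_cancel₀ ha
  rw [hab b]
  split_ifs <;> simp

end Groth.Agent.DiagRep
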