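import Groth.Prelude.Def_CoactBr
import Groth.Prelude.Def_SekSuwa
import Groth.Prelude.Def_Red
import Groth.Prelude.Def_AGF
import Mathlib.CategoryTheory.Limits.Constructions.EpiMono
import Mathlib.AlgebraicGeometry.Morphisms.ClosedImmersion

set_option autoImplicit false

/-!
Affine groups: points, homomorphisms, base change.
-/

noncomputable section

universe u

open CategoryTheory MonoidalCategory CartesianMonoidalCategory AlgebraicGeometry CoactBr WithConv
open scoped MonObj TensorProduct

namespace Groth.Agent.DiagRep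

variable {R : Type u} [CommRing R] {A B C : Type u} [CommRing A] [CommRing B] [CommRing C]

theorem exists_pt [Algebra R A] [Algebra R C] (f : sp R C ⟶ sp R A) : ∃ φ : A →ₐ[R] C, f = pt φ := by
  let ψ := (algSpec.fullyFaithful (R := CommRingCat.of R)).preimage (X := Opposite.op (CommAlgCat.of R C))
    (Y := Opposite.op (CommAlgCat.of R A)) f
  exact ⟨ψ.unop.hom, ((algSpec.fullyFaithful (R := CommRingCat.of R)).map_preimage
    (X := Opposite.op (CommAlgCat.of R C)) (Y := Opposite.op (CommAlgCat.of R A)) f).symm⟩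

theorem pt_mul_conv [Bialgebra R A] [Algebra R C] (g h : A →ₐ[R] C) :
    pt g * pt h = pt (toConv g * toConv h).ofConv :=
  (map_mul Spec.mapMulEquiv (toConv g) (toConv h)).symm

theorem pt_one [Bialgebra R A] [Algebra R C] :
    pt ((Algebra.ofId R C).comp (Bialgebra.counitAlgHom R A)) = (1 : sp R C ⟶ sp R A) :=
  map_one Spec.mapMulEquiv

theorem toConv_comul [Bialgebra R A] :
    toConv (Bialgebra.comulAlgHom R A) =
      toConv (Algebra.TensorProduct.includeLeft : A →ₐ[R] A ⊗[R] A) * toConv Algebra.TensorProduct.includeRight := by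
  apply WithConv.ext
  apply AlgHom.ext
  intro x
  show CoalgebraStruct.comul (R := R) x = (toConv Algebra.TensorProduct.includeLeft * toConv Algebra.TensorProduct.includeRight : WithConv (A →ₐ[R] A ⊗[R] A)) x
  rw [AlgHom.convMul_apply]
  generalize CoalgebraStruct.comul (R := R) x = z
  induction z using TensorProduct.induction_on with
  | zero => simp
  | add z w hz hw => simp only [map_add, ← hz, ← hw]
  | tmul p q => simp

/-- A homomorphism of affine groups respects the comultiplication. -/
theorem comul_comp_of_isMonHom [Bialgebra R A] [Bialgebra R C] (φ : A →ₐ[R] C) [IsMonHom (pt φ)] :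
    toConv ((Bialgebra.comulAlgHom R C).comp φ) =
      toConv ((Algebra.TensorProduct.includeLeft : C →ₐ[R] C ⊗[R] C).comp φ) *
        toConv ((Algebra.TensorProduct.includeRight : C →ₐ[R] C ⊗[R] C).comp φ) := by
  have h := MonObj.mul_comp (pt (R := R) (Algebra.TensorProduct.includeLeft : C →ₐ[R] C ⊗[R] C))
    (pt (R := R) (Algebra.TensorProduct.includeRight : C →ₐ[R] C ⊗[R] C)) (pt φ)
  rw [pt_mul_conv, ← toConv_comul, ← pt_comp, ← pt_comp, ← pt_comp, pt_mul_conv] at h
  exact WithConv.ext (pt_injective h)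

theorem counit_comp_of_isMonHom [Bialgebra R A] [Bialgebra R C] (φ : A →ₐ[R] C) [IsMonHom (pt φ)] :
    (Bialgebra.counitAlgHom R C).comp φ = Bialgebra.counitAlgHom R A := by
  have h := MonObj.one_comp (X := sp R R) (pt φ)
  rw [← pt_one, ← pt_one, ← pt_comp] at h
  have e := pt_injective h
  ext x
  simpa using DFunLike.congr_fun e x

theorem isMonHom_pt [Bialgebra R A] [Bialgebra R C] (φ : A →ₐ[R] C)
    (h₁ : (Bialgebra.counitAlgHom R C).comp φ = Bialgebra.counitAlgHom R A)
    (h₂ : (Algebra.TensorProduct.map φ φ).comp (Bialgebra.comulAlgHom R A) =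
      (Bialgebra.comulAlgHom R C).comp φ) : IsMonHom (pt φ) :=
  SekSuwa.isMonHom_specHom (BialgHom.ofAlgHom φ h₁ h₂)

/-- The point over the base as a rational point. -/
def toBase : sp R R ⟶ 𝟙_ (Over (Spec (CommRingCat.of R))) := toUnit _

instance : IsIso (toBase (R := R)) := by
  haveI : IsIso ((Over.forget _).map (toBase (R := R))) := by
    show IsIso (Spec.map (CommRingCat.ofHom (algebraMap R R)))
    rw [Algebra.algebraMap_self, CommRingCat.ofHom_id, Spec.map_id]
    infer_instance
  exact isIso_of_reflects_iso _ (Over.forget _)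

/-- Constant points. -/
theorem exists_const [Algebra R A] [Algebra R C] (g : 𝟙_ (Over (Spec (CommRingCat.of R))) ⟶ sp R A) :
    ∃ γ : A →ₐ[R] R, toUnit (sp R C) ≫ g = pt ((Algebra.ofId R C).comp γ) := by
  obtain ⟨γ, hγ⟩ := exists_pt (toBase ≫ g)
  refine ⟨γ, ?_⟩
  rw [pt_comp, ← hγ, ← Category.assoc]
  congr 1
  exact Subsingleton.elim _ _

theorem const_pt [Algebra R A] [Algebra R C] (γ : A →ₐ[R] R) :
    toUnit (sp R C) ≫ inv toBase ≫ pt γ = pt ((Algebra.ofId R C).comp γ) := by
  rw [pt_comp, ← Category.assoc]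
  congr 1
  rw [← cancel_mono (toBase (R := R))]
  exact Subsingleton.elim _ _

/-- The structure morphism. -/
abbrev baseHom (R K : Type u) [CommRing R] [CommRing K] [Algebra R K] :
    Spec (CommRingCat.of K) ⟶ Spec (CommRingCat.of R) := Spec.map (CommRingCat.ofHom (algebraMap R K))

/-- The comparison of base change and tensor product. -/
def bcHom (R K A : Type u) [CommRing R] [CommRing K] [Algebra R K] [CommRing A] [Bialgebra R A] :
    (Over.pullback (baseHom R K)).obj (sp R A) ⟶ sp K (K ⊗[R] A) :=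
  Scheme.Hom.asOver
    (Limits.pullbackSymmetry (Spec (.of A) ↘ Spec (.of R)) (Spec (.of K) ↘ Spec (.of R)) ≪≫
      pullbackSpecIso' R K A).hom (Spec (CommRingCat.of K))

theorem bcHom_left (R K A : Type u) [CommRing R] [CommRing K] [Algebra R K] [CommRing A] [Bialgebra R A] :
    (bcHom R K A).left =
    (Limits.pullbackSymmetry (Spec (.of A) ↘ Spec (.of R)) (Spec (.of K) ↘ Spec (.of R)) ≪≫
      pullbackSpecIso' R K A).hom := rfl

instance (R K A : Type u) [CommRing R] [CommRing K] [Algebra R K] [CommRing A] [Bialgebra R A] :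
    IsIso (bcHom R K A) := by
  haveI : IsIso ((Over.forget _).map (bcHom R K A)) := by
    show IsIso (bcHom R K A).left
    rw [bcHom_left]; infer_instance
  exact isIso_of_reflects_iso _ (Over.forget _)

theorem isMonHom_bcHom (R K A : Type u) [CommRing R] [CommRing K] [Algebra R K] [CommRing A] [HopfAlgebra R A] :
    IsMonHom (M := Red.bc (baseHom R K) (sp R A)) (N := sp K (K ⊗[R] A)) (bcHom R K A) :=
  inferInstanceAs (IsMonHom ((Limits.pullbackSymmetry (Spec (.of A) ↘ Spec (.of R)) (Spec (.of K) ↘ Spec (.of R)) ≪≫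
    pullbackSpecIso' R K A).hom.asOver (Spec (CommRingCat.of K))))

theorem bcHom_includeLeft (R K A : Type u) [CommRing R] [CommRing K] [Algebra R K] [CommRing A] [Bialgebra R A] :
    (bcHom R K A).left ≫ Spec.map (CommRingCat.ofHom
      (Algebra.TensorProduct.includeLeftRingHom : K →+* K ⊗[R] A)) =
      Limits.pullback.snd (sp R A).hom (baseHom R K) := by
  rw [bcHom_left, Iso.trans_hom]
  refine (Category.assoc _ _ _).trans ?_
  show _ ≫ (pullbackSpecIso R K A).hom ≫ _ = _
  erw [pullbackSpecIso_hom_fst]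
  exact Limits.pullbackSymmetry_hom_comp_fst _ _

theorem bcHom_includeRight (R K A : Type u) [CommRing R] [CommRing K] [Algebra R K] [CommRing A] [Bialgebra R A] :
    (bcHom R K A).left ≫ Spec.map (CommRingCat.ofHom
      (Algebra.TensorProduct.includeRight : A →ₐ[R] K ⊗[R] A).toRingHom) =
      Limits.pullback.fst (sp R A).hom (baseHom R K) := by
  rw [bcHom_left, Iso.trans_hom]
  refine (Category.assoc _ _ _).trans ?_
  show _ ≫ (pullbackSpecIso R K A).hom ≫ _ = _
  erw [pullbackSpecIso_hom_snd]
  exact Limits.pullbackSymmetry_hom_comp_snd _ _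

theorem map_bcHom {R K A C : Type u} [CommRing R] [CommRing K] [Algebra R K] [CommRing A] [Bialgebra R A]
    [CommRing C] [Bialgebra R C] (φ : A →ₐ[R] C) :
    (Over.pullback (baseHom R K)).map (pt φ) ≫ bcHom R K A =
      bcHom R K C ≫ pt (Algebra.TensorProduct.map (AlgHom.id K K) φ) := by
  apply Over.OverMorphism.ext
  rw [Over.comp_left, Over.comp_left, pt_left]
  refine (cancel_mono (pullbackSpecIso R K A).inv).mp ?_
  apply Limits.pullback.hom_ext
  · rw [Category.assoc, Category.assoc, pullbackSpecIso_inv_fst]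
    refine (Category.assoc _ _ _).trans (.trans ?_ (Category.assoc _ _ _).symm)
    erw [bcHom_includeLeft]
    have e : (Algebra.TensorProduct.map (AlgHom.id K K) φ).toRingHom.comp Algebra.TensorProduct.includeLeftRingHom =
        (Algebra.TensorProduct.includeLeftRingHom : K →+* K ⊗[R] C) := by
      ext x; simp
    erw [← Spec.map_comp, ← CommRingCat.ofHom_comp, e, bcHom_includeLeft]
    exact Limits.pullback.lift_snd _ _ _
  · rw [Category.assoc, Category.assoc, pullbackSpecIso_inv_snd]
    refine (Category.assoc _ _ _).trans (.trans ?_ (Category.assoc _ _ _).symm)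
    have e : (Algebra.TensorProduct.map (AlgHom.id K K) φ).toRingHom.comp
        (Algebra.TensorProduct.includeRight : A →ₐ[R] K ⊗[R] A).toRingHom =
        (Algebra.TensorProduct.includeRight : C →ₐ[R] K ⊗[R] C).toRingHom.comp φ.toRingHom := by
      ext x; simp
    erw [bcHom_includeRight R K A]
    erw [← Spec.map_comp, ← CommRingCat.ofHom_comp]
    erw [e]
    rw [CommRingCat.ofHom_comp, Spec.map_comp]
    refine Eq.trans ?_ (Category.assoc _ _ _)
    erw [bcHom_includeRight R K C]
    exact Limits.pullback.lift_fst _ _ _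

section Mono

theorem isMonHom_of_comp_mono {S : Scheme.{u}} {X Y Z : Over S} [MonObj X] [MonObj Y] [MonObj Z] (f : X ⟶ Y)
    (g : Y ⟶ Z) [IsMonHom g] [Mono g] [IsMonHom (f ≫ g)] : IsMonHom f where
  one_hom := by
    rw [← cancel_mono g, Category.assoc, IsMonHom.one_hom (f ≫ g), IsMonHom.one_hom g]
  mul_hom := by
    rw [← cancel_mono g, Category.assoc, IsMonHom.mul_hom (f ≫ g), Category.assoc, IsMonHom.mul_hom g,
      ← tensorHom_comp_tensorHom_assoc]

theorem mono_of_isClosedImmersion {S : Scheme.{u}} {X Y : Over S} (i : X ⟶ Y) (h : IsClosedImmersion i.left) :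
    Mono i := by
  haveI : Mono ((Over.forget S).map i) := inferInstanceAs (Mono i.left)
  exact Functor.mono_of_mono_map (Over.forget S) this

variable {S : Scheme.{u}} {G H : Over S} [GrpObj G]

theorem conjBy_eq_comp (g : 𝟙_ (Over S) ⟶ G) (i : H ⟶ G) : AGF.conjBy g i = i ≫ AGF.conjBy g (𝟙 G) := by
  simp only [AGF.conjBy, MonObj.comp_mul, GrpObj.comp_inv, ← Category.assoc, Category.comp_id,
    Subsingleton.elim (i ≫ toUnit G) (toUnit H)]

theorem isMonHom_conjBy (g : 𝟙_ (Over S) ⟶ G) : IsMonHom (AGF.conjBy g (𝟙 G)) where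
  one_hom := by
    simp only [AGF.conjBy, MonObj.comp_mul, GrpObj.comp_inv, ← Category.assoc, Category.comp_id,
      Subsingleton.elim (η[G] ≫ toUnit G) (𝟙 _), Category.id_comp]
    rw [MonObj.one_eq_one, _root_.mul_one, mul_inv_cancel]
  mul_hom := by
    rw [MonObj.mul_eq_mul]
    simp only [AGF.conjBy, MonObj.comp_mul, GrpObj.comp_inv, ← Category.assoc, Category.comp_id,
      tensorHom_fst, tensorHom_snd, Subsingleton.elim _ (toUnit (G ⊗ G))]
    group

instance isIso_conjBy (g : 𝟙_ (Over S) ⟶ G) : IsIso (AGF.conjBy g (𝟙 G)) := by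
  have key : ∀ g h : 𝟙_ (Over S) ⟶ G, AGF.conjBy g (𝟙 G) ≫ AGF.conjBy h (𝟙 G) = AGF.conjBy (h * g) (𝟙 G) := by
    intro g h
    rw [← conjBy_eq_comp]
    simp only [AGF.conjBy, MonObj.comp_mul]
    group
  have h1 : AGF.conjBy (1 : 𝟙_ (Over S) ⟶ G) (𝟙 G) = 𝟙 G := by
    simp [AGF.conjBy, MonObj.comp_one]
  exact ⟨⟨AGF.conjBy g⁻¹ (𝟙 G), by rw [key, inv_mul_cancel, h1], by rw [key, mul_inv_cancel, h1]⟩⟩

end Mono

end Groth.Agent.DiagRep
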