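import Groth.Agent.DiagRepLib.Split
import Mathlib.RingTheory.Flat.FaithfullyFlat.Basic
import Mathlib.AlgebraicGeometry.Morphisms.ClosedImmersion

set_option autoImplicit false

/-!
Rationality of conjugacy of finite diagonalisable subgroups of general linear groups.
-/

noncomputable section

universe u

open CategoryTheory MonoidalCategory CartesianMonoidalCategory AlgebraicGeometry CoactBr
open scoped MonObj TensorProduct

namespace Groth.Agent.DiagRep

theorem IsProj.comp_equiv {k : Type u} [CommRing k] {m : ℕ} {M : Type} [Fintype M] [DecidableEq M]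
    {P : M → Matrix (Fin m) (Fin m) k} (hP : IsProj P) (α : M ≃ M) : IsProj fun a => P (α a) where
  mul a b := by simp [hP.mul, α.apply_eq_iff_eq]
  sum := (Equiv.sum_comp α P).trans hP.sum

theorem surjective_of_isClosedImmersion {k : Type u} [CommRing k] {B C : Type u} [CommRing B] [Algebra k B]
    [CommRing C] [Algebra k C] (φ : B →ₐ[k] C) (h : IsClosedImmersion (pt φ).left) : Function.Surjective φ := by
  rw [pt_left] at h
  have := (@IsClosedImmersion.isAffine_surjective_of_isAffine (Spec (CommRingCat.of C)) (Spec (CommRingCat.of B)) _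
    (Spec.map (CommRingCat.ofHom φ.toRingHom)) h).2
  rwa [RingHom.surjective_respectsIso.arrow_mk_iso_iff (arrowIsoΓSpecOfIsAffine (CommRingCat.ofHom φ.toRingHom)).symm]
    at this

variable {k K : Type u} [Field k] [Field K] [Algebra k K] {m : ℕ} {M : Type} [AddCommGroup M] [Fintype M]
  [DecidableEq M]

local notation "q" => Spec.map (CommRingCat.ofHom (algebraMap k K))

theorem exists_bc_rep {C : Type u} [CommRing C] [HopfAlgebra k C] {σ : Over (Spec (CommRingCat.of k))} [GrpObj σ]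
    (v : sp k C ≅ σ) [IsMonHom v.hom] [IsMonHom v.inv] (i : σ ⟶ sp k (CoordGrp.GLn m k))
    (φ : CoordGrp.GLn m k →ₐ[k] C) (h : v.hom ≫ i = pt φ) :
    ∃ w : sp K (K ⊗[k] C) ≅ Red.bc q σ, IsMonHom w.hom ∧ IsMonHom w.inv ∧
      w.hom ≫ (Over.pullback q).map i ≫ bcHom k K (CoordGrp.GLn m k) =
        pt (Algebra.TensorProduct.map (AlgHom.id K K) φ) := by
  haveI hb : IsMonHom (asIso (bcHom k K C)).hom := isMonHom_bcHom k K C
  haveI hb' : IsMonHom (asIso (bcHom k K C)).inv := inferInstance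
  haveI h1 : IsMonHom (M := Red.bc q (sp k C)) (N := Red.bc q σ) ((Over.pullback q).map v.hom) := isMonHom_bc_map q v.hom
  haveI h2 : IsMonHom (M := Red.bc q σ) (N := Red.bc q (sp k C)) ((Over.pullback q).map v.inv) := isMonHom_bc_map q v.inv
  refine ⟨(asIso (bcHom k K C)).symm ≪≫ (Over.pullback q).mapIso v, ?_, ?_, ?_⟩
  · show IsMonHom ((asIso (bcHom k K C)).inv ≫ (Over.pullback q).map v.hom)
    infer_instance
  · show IsMonHom ((Over.pullback q).map v.inv ≫ (asIso (bcHom k K C)).hom)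
    infer_instance
  · show (inv (bcHom k K C) ≫ (Over.pullback q).map v.hom) ≫ (Over.pullback q).map i ≫ _ = _
    rw [Category.assoc, IsIso.inv_comp_eq, ← Category.assoc, ← Functor.map_comp, h, map_bcHom]

/-- Conjugacy descends. -/
theorem exists_conjBy_of_baseChange (σ τ : Over (Spec (CommRingCat.of k))) [GrpObj σ] [GrpObj τ]
    (i : σ ⟶ sp k (CoordGrp.GLn m k)) (j : τ ⟶ sp k (CoordGrp.GLn m k))
    [IsMonHom i] [IsMonHom j] (hj : IsClosedImmersion j.left)
    (hσ : Red.IsSplitTorusWith M σ) (hτ : Red.IsSplitTorusWith M τ)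
    (h : ∃ (g : 𝟙_ (Over (Spec (CommRingCat.of K))) ⟶ Red.bc q (sp k (CoordGrp.GLn m k)))
      (φ : Red.bc q σ ≅ Red.bc q τ),
      AGF.conjBy g ((Over.pullback q).map i) = φ.hom ≫ (Over.pullback q).map j) :
    ∃ (g : 𝟙_ (Over (Spec (CommRingCat.of k))) ⟶ sp k (CoordGrp.GLn m k)) (φ : σ ≅ τ),
      AGF.conjBy g i = φ.hom ≫ j := by
  obtain ⟨g₀, φ₀, h₀⟩ := h
  let E := dBasis k M
  let X := glnCoords k m
  obtain ⟨vσ, hvσ, hvσ'⟩ := exists_split_iso k hσ
  obtain ⟨vτ, hvτ, hvτ'⟩ := exists_split_iso k hτ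
  obtain ⟨φP, P, hφP, hXP, hP⟩ := exists_coeffs X E (vσ.hom ≫ i)
  obtain ⟨φQ, Q, hφQ, hXQ, hQ⟩ := exists_coeffs X E (vτ.hom ≫ j)
  obtain ⟨wσ, hwσ, -, hPσ⟩ := exists_bc_rep (K := K) vσ i φP hφP
  obtain ⟨wτ, hwτ, -, hQτ⟩ := exists_bc_rep (K := K) vτ j φQ hφQ
  set bA := bcHom k K (CoordGrp.GLn m k) with hbA
  haveI hbm : IsMonHom (M := Red.bc q (sp k (CoordGrp.GLn m k))) bA := isMonHom_bcHom k K _
  set φP' := Algebra.TensorProduct.map (AlgHom.id K K) φP
  set φQ' := Algebra.TensorProduct.map (AlgHom.id K K) φQ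
  let θ := wσ ≪≫ φ₀ ≪≫ wτ.symm
  have e : AGF.conjBy (g₀ ≫ bA) (pt φP') = θ.hom ≫ pt φQ' := by
    rw [← hPσ, ← hQτ, ← comp_conjBy, ← conjBy_comp_hom, h₀]
    simp [θ]
  haveI : IsMonHom (pt φP') := by
    rw [← hPσ]
    haveI := isMonHom_bc_map q i
    infer_instance
  haveI : IsMonHom (pt φQ') := by
    rw [← hQτ]
    haveI := isMonHom_bc_map q j
    infer_instance
  haveI : Mono (pt φQ') := by
    rw [← hQτ]
    haveI := mono_of_isClosedImmersion j hj
    infer_instance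
  haveI : IsMonHom (θ.hom ≫ pt φQ') := by
    rw [← e, conjBy_eq_comp]
    haveI := isMonHom_conjBy (g₀ ≫ bA)
    infer_instance
  haveI : IsMonHom θ.hom := isMonHom_of_comp_mono θ.hom (pt φQ')
  obtain ⟨f, α, hf, hfa⟩ := exists_auto (E.bc K) (E.bc K) θ
  obtain ⟨G, hG, hGc⟩ := exists_conj_mat (A := K ⊗[k] CoordGrp.GLn m k) (C := K ⊗[k] DAlg k M) (X.bc K) (E.bc K) (g₀ ≫ bA)
  rw [hf, ← pt_comp] at e
  have hPK := toMat_baseChange E X K φP P hXP
  have hQK : (f.comp φQ').mapMatrix (X.bc K).X =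
      (E.bc K).toMat fun a => (algebraMap k K).mapMatrix (Q (α.symm a)) := by
    rw [mapMatrix_comp, toMat_baseChange E X K φQ Q hXQ, toMat_comp (E.bc K) (E.bc K) f α.toEquiv hfa]
    rfl
  obtain ⟨G₀, hG₀, hG₀c⟩ := exists_conj_of_map hP (hQ.comp_equiv α.toEquiv.symm) (algebraMap k K) G hG
    ((hGc _ _ _ _ hPK hQK).1 e)
  obtain ⟨f₀, u, hu, -, hf₀⟩ := exists_bialg_iso E E α
  obtain ⟨g, hg⟩ := exists_conj_point X E G₀ hG₀
  refine ⟨g, vσ.symm ≪≫ u ≪≫ vτ, ?_⟩
  rw [← cancel_epi vσ.hom, comp_conjBy, hφP,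
    hg φP (f₀.comp φQ) P _ hXP (by rw [mapMatrix_comp, hXQ, toMat_comp E E f₀ α.toEquiv hf₀]) hG₀c,
    pt_comp, ← hu, ← hφQ]
  simp

/-- Every diagonalisable subgroup is conjugate to one defined over the ground field. -/
theorem exists_descent_conjBy (σ' : Over (Spec (CommRingCat.of K))) [GrpObj σ']
    (i' : σ' ⟶ Red.bc q (sp k (CoordGrp.GLn m k)))
    [IsMonHom i'] (hi' : IsClosedImmersion i'.left) (hσ' : Red.IsSplitTorusWith M σ') :
    ∃ (σ : Over (Spec (CommRingCat.of k))) (_ : GrpObj σ) (i : σ ⟶ sp k (CoordGrp.GLn m k))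
      (_ : IsMonHom i), IsClosedImmersion i.left ∧ Red.IsSplitTorusWith M σ ∧
      ∃ (g : 𝟙_ (Over (Spec (CommRingCat.of K))) ⟶ Red.bc q (sp k (CoordGrp.GLn m k)))
        (φ : σ' ≅ Red.bc q σ),
        AGF.conjBy g i' = φ.hom ≫ (Over.pullback q).map i := by
  let E := dBasis k M
  let X := glnCoords k m
  set bA := bcHom k K (CoordGrp.GLn m k) with hbA
  haveI hbm : IsMonHom (M := Red.bc q (sp k (CoordGrp.GLn m k))) bA := isMonHom_bcHom k K _
  obtain ⟨v₀, hv₀, hv₀'⟩ := exists_split_iso K hσ'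
  obtain ⟨_, u, hu, huhom, -⟩ := exists_bialg_iso (C := DAlg K M) (C' := K ⊗[k] DAlg k M) (dBasis K M) (E.bc K)
    (AddEquiv.refl M)
  haveI : IsMonHom u.hom := hu ▸ huhom
  let v := u ≪≫ v₀
  haveI : IsMonHom v.hom := by show IsMonHom (u.hom ≫ v₀.hom); infer_instance
  obtain ⟨φ', P, hφ', hXP, hP⟩ := exists_coeffs (X.bc K) (E.bc K) (v.hom ≫ i' ≫ bA)
  obtain ⟨f, G, hG, hGc⟩ := exists_conj_diag hP
  obtain ⟨φQ, hXQ, hQm⟩ := exists_hom X E (isProj_diagFam (k := k) f)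
  obtain ⟨w, hw, hw'⟩ := exists_ds_iso k M
  haveI : IsMonHom (pt φQ) := hQm
  obtain ⟨wσ, -, -, hwQ⟩ := exists_bc_rep (K := K) w (w.inv ≫ pt φQ) φQ (by simp)
  set φQ' := Algebra.TensorProduct.map (AlgHom.id K K) φQ
  have hXQ' : φQ'.mapMatrix (X.bc K).X = (E.bc K).toMat fun a => diagFam K f a := by
    rw [toMat_baseChange E X K φQ _ hXQ]
    simp only [diagFam_map]
  obtain ⟨g', hg'⟩ := exists_conj_point (A := K ⊗[k] CoordGrp.GLn m k) (C := K ⊗[k] DAlg k M) (X.bc K) (E.bc K) G hG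
  have e := hg' φ' φQ' P _ hXP hXQ' hGc
  have hclosed : IsClosedImmersion (pt φQ').left := by
    rw [← e, conjBy_eq_comp, ← hφ']
    haveI := hi'
    haveI : IsIso (v.hom).left := inferInstanceAs (IsIso ((Over.forget _).map v.hom))
    haveI : IsIso bA.left := inferInstanceAs (IsIso ((Over.forget _).map bA))
    haveI : IsIso (AGF.conjBy g' (𝟙 (sp K (K ⊗[k] CoordGrp.GLn m k)))).left :=
      inferInstanceAs (IsIso ((Over.forget _).map (AGF.conjBy g' (𝟙 (sp K (K ⊗[k] CoordGrp.GLn m k))))))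
    simp only [Over.comp_left]
    infer_instance
  have hsurj : Function.Surjective φQ := by
    have h := surjective_of_isClosedImmersion φQ' hclosed
    exact (Module.FaithfullyFlat.lTensor_surjective_iff_surjective k K φQ.toLinearMap).mp h
  refine ⟨Red.DS (Spec (CommRingCat.of k)) M, inferInstance, w.inv ≫ pt φQ, inferInstance, ?_,
    isSplitTorusWith_DS _ _, g' ≫ inv bA, v.symm ≪≫ wσ, ?_⟩
  · haveI : IsClosedImmersion (pt φQ).left := by
      rw [pt_left]
      exact IsClosedImmersion.spec_of_surjective _ hsurj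
    haveI : IsIso (w.inv).left := inferInstanceAs (IsIso ((Over.forget _).map w.inv))
    rw [Over.comp_left]
    infer_instance
  · rw [← cancel_mono bA, ← cancel_epi v.hom, @conjBy_comp_hom _ _ _ _ _ _ (g' ≫ inv bA) i' bA hbm, comp_conjBy, hφ', Category.assoc, IsIso.inv_hom_id,
      Category.comp_id, e]
    rw [Functor.map_comp, Category.assoc] at hwQ
    simp [hbA, hwQ]

end Groth.Agent.DiagRep
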