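import Groth.Agent.DiagRepLib.Hom

set_option autoImplicit false

/-!
Split diagonalisable groups as spectra of group algebras, and base change.
-/

noncomputable section

universe u

open CategoryTheory MonoidalCategory CartesianMonoidalCategory AlgebraicGeometry CoactBr
open scoped MonObj TensorProduct

namespace Groth.Agent.DiagRep

/-- The coordinate ring of the split diagonalisable group. -/
abbrev DAlg (k : Type u) [CommRing k] (M : Type) [AddCommGroup M] : Type u := MonoidAlgebra k (Multiplicative M)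

/-- Its group-like basis. -/
def dBasis (k : Type u) [CommRing k] (M : Type) [AddCommGroup M] : GLBasis k M (DAlg k M) :=
  monoidAlgebraBasis k M

theorem exists_bc_diag_iso (R k : Type u) [CommRing R] [CommRing k] [Algebra R k] (M : Type) [AddCommGroup M]
    [Fintype M] [DecidableEq M] :
    ∃ w : sp k (DAlg k M) ≅ Red.bc (baseHom R k) (sp R (MonoidAlgebra R (Multiplicative M))),
      IsMonHom w.hom ∧ IsMonHom w.inv := by
  let f : Red.bc (baseHom R k) (sp R (MonoidAlgebra R (Multiplicative M))) ⟶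
      sp k (k ⊗[R] MonoidAlgebra R (Multiplicative M)) := bcHom _ _ _
  haveI : IsMonHom f := isMonHom_bcHom _ _ _
  haveI : IsIso f := inferInstanceAs (IsIso (bcHom _ _ _))
  obtain ⟨q, u, hu, hq, -⟩ :=
    exists_bialg_iso (C := k ⊗[R] MonoidAlgebra R (Multiplicative M)) (C' := DAlg k M) ((monoidAlgebraBasis R M).bc k)
      (dBasis k M) (AddEquiv.refl M)
  haveI : IsMonHom u.hom := hu ▸ hq
  refine ⟨u ≪≫ (asIso f).symm, ?_, ?_⟩
  · show IsMonHom (u.hom ≫ inv f)
    haveI : IsMonHom (inv f) := by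
      show IsMonHom (asIso f).inv
      haveI : IsMonHom (asIso f).hom := isMonHom_bcHom _ _ _
      infer_instance
    infer_instance
  · show IsMonHom (f ≫ u.inv)
    infer_instance

theorem exists_ds_iso (k : Type u) [CommRing k] (M : Type) [AddCommGroup M] [Fintype M] [DecidableEq M] :
    ∃ w : sp k (DAlg k M) ≅ Red.DS (Spec (CommRingCat.of k)) M, IsMonHom w.hom ∧ IsMonHom w.inv := by
  letI : Algebra (ULift.{u} ℤ) k := ((Int.castRingHom k).comp ULift.ringEquiv.toRingHom).toAlgebra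
  have e : Limits.IsTerminal.from specULiftZIsTerminal (Spec (CommRingCat.of k)) = baseHom (ULift.{u} ℤ) k :=
    specULiftZIsTerminal.hom_ext _ _
  unfold Red.DS
  rw [e]
  exact exists_bc_diag_iso (ULift.{u} ℤ) k M

theorem isSplitTorusWith_DS (S : Scheme.{u}) (M : Type) [AddCommGroup M] : Red.IsSplitTorusWith M (Red.DS S M) :=
  ⟨Iso.refl _⟩

theorem exists_split_iso (k : Type u) [CommRing k] {M : Type} [AddCommGroup M] [Fintype M] [DecidableEq M]
    {σ : Over (Spec (CommRingCat.of k))} [GrpObj σ] (h : Red.IsSplitTorusWith M σ) :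
    ∃ v : sp k (DAlg k M) ≅ σ, IsMonHom v.hom ∧ IsMonHom v.inv := by
  obtain ⟨e⟩ := h
  obtain ⟨w, hw, hw'⟩ := exists_ds_iso k M
  let f : σ ≅ Red.DS (Spec (CommRingCat.of k)) M :=
    ⟨e.hom.hom.hom, e.inv.hom.hom, congrArg (fun t => t.hom.hom) e.hom_inv_id, congrArg (fun t => t.hom.hom) e.inv_hom_id⟩
  haveI : IsMonHom f.hom := e.hom.hom.isMonHom_hom
  haveI : IsMonHom f.inv := e.inv.hom.isMonHom_hom
  exact ⟨w ≪≫ f.symm, by show IsMonHom (w.hom ≫ f.inv); infer_instance,
    by show IsMonHom (f.hom ≫ w.inv); infer_instance⟩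

theorem conjBy_comp_hom {S : Scheme.{u}} {G G' H : Over S} [GrpObj G] [GrpObj G'] (g : 𝟙_ (Over S) ⟶ G) (i : H ⟶ G)
    (b : G ⟶ G') [IsMonHom b] : AGF.conjBy g i ≫ b = AGF.conjBy (g ≫ b) (i ≫ b) := by
  simp [AGF.conjBy, MonObj.mul_comp, GrpObj.inv_comp]

theorem comp_conjBy {S : Scheme.{u}} {G H H' : Over S} [GrpObj G] (g : 𝟙_ (Over S) ⟶ G) (w : H' ⟶ H) (i : H ⟶ G) :
    w ≫ AGF.conjBy g i = AGF.conjBy g (w ≫ i) := by
  rw [conjBy_eq_comp g i, conjBy_eq_comp g (w ≫ i), Category.assoc]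

variable {k : Type u} [CommRing k] {m : ℕ} {A : Type u} [CommRing A] [HopfAlgebra k A]
  {M : Type} [AddCommGroup M] [Fintype M] [DecidableEq M] {C : Type u} [CommRing C] [HopfAlgebra k C]

theorem toMat_baseChange (E : GLBasis k M C) (X : GLCoords k m A) (K : Type u) [CommRing K] [Algebra k K]
    (φ : A →ₐ[k] C) (P : M → Matrix (Fin m) (Fin m) k) (h : φ.mapMatrix X.X = E.toMat P) :
    (Algebra.TensorProduct.map (AlgHom.id K K) φ).mapMatrix (X.bc K).X =
      (E.bc K).toMat fun a => (algebraMap k K).mapMatrix (P a) := by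
  ext i j
  have e := congrFun (congrFun h i) j
  rw [GLBasis.toMat_apply] at e ⊢
  simp only [AlgHom.mapMatrix_apply, Matrix.map_apply, RingHom.mapMatrix_apply] at e ⊢
  show (Algebra.TensorProduct.map (AlgHom.id K K) φ) (1 ⊗ₜ X.X i j) = _
  rw [Algebra.TensorProduct.map_tmul, AlgHom.id_apply, e, TensorProduct.tmul_sum]
  refine Finset.sum_congr rfl fun a _ => ?_
  rw [GLBasis.bc, Algebra.TensorProduct.basis_apply, TensorProduct.tmul_smul, algebraMap_smul]

theorem isMonHom_bc_map {S S' : Scheme.{u}} (q : S' ⟶ S) {G H : Over S} [GrpObj G] [GrpObj H] (f : G ⟶ H)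
    [IsMonHom f] : IsMonHom (M := Red.bc q G) (N := Red.bc q H) ((Over.pullback q).map f) :=
  @Functor.map.instIsMonHom _ _ _ _ _ _ (Over.pullback q) _ _ _ _ _ f _

end Groth.Agent.DiagRep
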