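import Groth.Agent.DiagRepLib.Scheme
import Groth.Agent.DiagRepLib.Coords

set_option autoImplicit false

/-!
Homomorphisms of finite diagonalisable groups into general linear groups.
-/

noncomputable section

universe u

open CategoryTheory MonoidalCategory CartesianMonoidalCategory AlgebraicGeometry CoactBr WithConv Matrix
open scoped MonObj TensorProduct

namespace Groth.Agent.DiagRep

variable {k : Type u} [CommRing k] {m : ℕ} {A : Type u} [CommRing A] [HopfAlgebra k A]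
  {M : Type} [AddCommGroup M] [Fintype M] [DecidableEq M] {C : Type u} [CommRing C] [HopfAlgebra k C]

theorem exists_coeffs (X : GLCoords k m A) (E : GLBasis k M C) (i : sp k C ⟶ sp k A) [IsMonHom i] :
    ∃ (φ : A →ₐ[k] C) (P : M → Matrix (Fin m) (Fin m) k),
      i = pt φ ∧ φ.mapMatrix X.X = E.toMat P ∧ IsProj P := by
  obtain ⟨φ, rfl⟩ := exists_pt i
  obtain ⟨P, hP⟩ := E.exists_toMat (φ.mapMatrix X.X)
  refine ⟨φ, P, rfl, hP.symm, (E.comul_toMat_iff P).1 ?_, ?_⟩
  · have h := congrArg (fun x : WithConv (A →ₐ[k] C ⊗[k] C) => x.ofConv.mapMatrix X.X) (comul_comp_of_isMonHom φ)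
    simp only [X.conv] at h
    rwa [mapMatrix_comp, mapMatrix_comp, mapMatrix_comp, ← hP] at h
  · have h := congrArg (fun x : A →ₐ[k] k => x.mapMatrix X.X) (counit_comp_of_isMonHom φ)
    simp only [X.counit, mapMatrix_comp, ← hP, E.counit_toMat] at h
    exact h

theorem exists_hom (X : GLCoords k m A) (E : GLBasis k M C) {P : M → Matrix (Fin m) (Fin m) k} (hP : IsProj P) :
    ∃ φ : A →ₐ[k] C, φ.mapMatrix X.X = E.toMat P ∧ IsMonHom (pt φ) := by
  obtain ⟨φ, hφ⟩ := X.lift (E.toMat P) (E.isUnit_toMat hP)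
  refine ⟨φ, hφ, isMonHom_pt φ (X.ext _ _ ?_) (X.ext _ _ ?_)⟩
  · rw [mapMatrix_comp, hφ, E.counit_toMat, hP.sum, X.counit]
  · rw [mapMatrix_comp, mapMatrix_comp, X.comul, map_mul, hφ, (E.comul_toMat_iff P).2 hP.mul, ← mapMatrix_comp,
      ← mapMatrix_comp, Algebra.TensorProduct.map_comp_includeLeft, Algebra.TensorProduct.map_comp_includeRight,
      mapMatrix_comp, mapMatrix_comp, hφ]

theorem toMat_map_base (φ : A →ₐ[k] k) (X : GLCoords k m A) :
    ((Algebra.ofId k C).comp φ).mapMatrix X.X = (algebraMap k C).mapMatrix (φ.mapMatrix X.X) := rfl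

omit [Fintype M] [DecidableEq M] in
theorem conjBy_pt_iff (X : GLCoords k m A) {γ : A →ₐ[k] k} (φ ψ : A →ₐ[k] C)
    (g : 𝟙_ (Over (Spec (CommRingCat.of k))) ⟶ sp k A)
    (hg : toUnit (sp k C) ≫ g = pt ((Algebra.ofId k C).comp γ)) :
    AGF.conjBy g (pt φ) = pt ψ ↔
      (algebraMap k C).mapMatrix (γ.mapMatrix X.X) * φ.mapMatrix X.X =
        ψ.mapMatrix X.X * (algebraMap k C).mapMatrix (γ.mapMatrix X.X) := by
  show toUnit (sp k C) ≫ g * pt φ * (toUnit (sp k C) ≫ g)⁻¹ = pt ψ ↔ _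
  rw [mul_inv_eq_iff_eq_mul, hg, pt_mul_conv, pt_mul_conv, ← toMat_map_base]
  constructor
  · intro h
    have := congrArg (fun x : A →ₐ[k] C => x.mapMatrix X.X) (pt_injective h)
    simpa only [X.conv] using this
  · intro h
    congr 1
    apply X.ext
    simpa only [X.conv] using h

/-- A rational point acts on coefficient families through its matrix. -/
theorem exists_conj_mat (X : GLCoords k m A) (E : GLBasis k M C)
    (g : 𝟙_ (Over (Spec (CommRingCat.of k))) ⟶ sp k A) :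
    ∃ G : Matrix (Fin m) (Fin m) k, IsUnit G.det ∧ ∀ (φ ψ : A →ₐ[k] C) (P Q : M → Matrix (Fin m) (Fin m) k),
      φ.mapMatrix X.X = E.toMat P → ψ.mapMatrix X.X = E.toMat Q →
      (AGF.conjBy g (pt φ) = pt ψ ↔ ∀ a, G * P a = Q a * G) := by
  obtain ⟨γ, hγ⟩ := exists_const (C := C) g
  refine ⟨γ.mapMatrix X.X, ?_, fun φ ψ P Q hP hQ => ?_⟩
  · rw [← AlgHom.map_det]; exact X.unit.map γ
  rw [conjBy_pt_iff X φ ψ g hγ, hP, hQ, E.mul_toMat, E.toMat_mul, E.toMat_injective.eq_iff, funext_iff]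

/-- Conjugation by an invertible matrix. -/
theorem exists_conj_point (X : GLCoords k m A) (E : GLBasis k M C) (G : Matrix (Fin m) (Fin m) k) (hG : IsUnit G.det) :
    ∃ g : 𝟙_ (Over (Spec (CommRingCat.of k))) ⟶ sp k A, ∀ (φ ψ : A →ₐ[k] C) (P Q : M → Matrix (Fin m) (Fin m) k),
      φ.mapMatrix X.X = E.toMat P → ψ.mapMatrix X.X = E.toMat Q →
      (∀ a, G * P a = Q a * G) → AGF.conjBy g (pt φ) = pt ψ := by
  obtain ⟨γ, hγ⟩ := X.lift G hG
  refine ⟨inv toBase ≫ pt γ, fun φ ψ P Q hP hQ h => ?_⟩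
  rw [conjBy_pt_iff X φ ψ _ (const_pt γ), hγ, hP, hQ, E.mul_toMat, E.toMat_mul]
  exact congrArg E.toMat (funext h)

variable {C' : Type u} [CommRing C'] [HopfAlgebra k C']

theorem toMat_comp (E : GLBasis k M C) (E' : GLBasis k M C') (f : C →ₐ[k] C') (α : M ≃ M)
    (hf : ∀ a, f (E.e a) = E'.e (α a)) (P : M → Matrix (Fin m) (Fin m) k) :
    f.mapMatrix (E.toMat P) = E'.toMat fun a => P (α.symm a) := by
  rw [E.map_toMat, GLBasis.toMat]
  simp only [hf]
  exact Fintype.sum_equiv α _ _ fun a => by rw [Equiv.symm_apply_apply]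

theorem exists_bialg_iso (E : GLBasis k M C) (E' : GLBasis k M C') (α : M ≃+ M) :
    ∃ (f : C →ₐ[k] C') (u : sp k C' ≅ sp k C), u.hom = pt f ∧ IsMonHom (pt f) ∧ ∀ a, f (E.e a) = E'.e (α a) := by
  have mk : ∀ {C₁ C₂ : Type u} [CommRing C₁] [HopfAlgebra k C₁] [CommRing C₂] [HopfAlgebra k C₂]
      (E₁ : GLBasis k M C₁) (E₂ : GLBasis k M C₂) (β : M ≃+ M),
      ∃ f : C₁ →ₐ[k] C₂, ∀ a, f (E₁.e a) = E₂.e (β a) := by
    intro C₁ C₂ _ _ _ _ E₁ E₂ β
    let L := E₁.e.constr k fun a => E₂.e (β a)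
    have hL : ∀ a, L (E₁.e a) = E₂.e (β a) := fun a => E₁.e.constr_basis k _ a
    refine ⟨AlgHom.ofLinearMap L ?_ ?_, hL⟩
    · rw [← E₁.e_zero, hL, map_zero, E₂.e_zero]
    · have : (LinearMap.mul k C₁).compr₂ L = (LinearMap.mul k C₂).compl₁₂ L L := by
        refine E₁.e.ext fun a => E₁.e.ext fun b => ?_
        simp [E₁.e_mul, hL, E₂.e_mul, map_add]
      exact fun x y => DFunLike.congr_fun (DFunLike.congr_fun this x) y
  obtain ⟨f, hf⟩ := mk E E' α
  obtain ⟨f', hf'⟩ := mk E' E α.symm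
  have h1 : f.comp f' = AlgHom.id k C' := AlgHom.toLinearMap_injective (E'.e.ext fun a => by simp [hf', hf])
  have h2 : f'.comp f = AlgHom.id k C := AlgHom.toLinearMap_injective (E.e.ext fun a => by simp [hf', hf])
  refine ⟨f, ⟨pt f, pt f', ?_, ?_⟩, rfl, isMonHom_pt f ?_ ?_, hf⟩
  · rw [← pt_comp, h1, pt_id]
  · rw [← pt_comp, h2, pt_id]
  · exact AlgHom.toLinearMap_injective (E.e.ext fun a => by simp [hf, E.counit_e, E'.counit_e])
  · exact AlgHom.toLinearMap_injective (E.e.ext fun a => by simp [hf, E.comul_e, E'.comul_e])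

theorem exists_auto [IsDomain k] (E : GLBasis k M C) (E' : GLBasis k M C') (v : sp k C' ≅ sp k C) [IsMonHom v.hom] :
    ∃ (f : C →ₐ[k] C') (α : M ≃+ M), v.hom = pt f ∧ ∀ a, f (E.e a) = E'.e (α a) := by
  obtain ⟨f, hf⟩ := exists_pt v.hom
  obtain ⟨f', hf'⟩ := exists_pt v.inv
  haveI : IsMonHom (pt f) := hf ▸ inferInstance
  have hinj : Function.Injective f := by
    have h := v.inv_hom_id
    rw [hf, hf', ← pt_comp, ← pt_id] at h
    exact Function.LeftInverse.injective (g := f') fun x => DFunLike.congr_fun (pt_injective h) x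
  have key : ∀ a, ∃ b, f (E.e a) = E'.e b := by
    intro a
    refine E'.exists_of_groupLike _ ?_ ?_
    · have h := congrArg (fun x : WithConv (C →ₐ[k] C' ⊗[k] C') => x (E.e a)) (comul_comp_of_isMonHom f)
      simp only [AlgHom.convMul_apply, E.comul_e] at h
      simpa [Algebra.TensorProduct.tmul_mul_tmul] using h
    · have h := DFunLike.congr_fun (counit_comp_of_isMonHom f) (E.e a)
      simpa [E.counit_e] using h
  choose α hα using key
  have hα0 : Function.Injective α := fun a b h => E.e.injective (hinj (by rw [hα, hα, h]))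
  have hadd : ∀ a b, α (a + b) = α a + α b := fun a b => E'.e.injective (by
    rw [← hα, ← E'.e_mul, ← hα, ← hα, ← map_mul, E.e_mul])
  exact ⟨f, AddEquiv.mk (Equiv.ofBijective α (Finite.injective_iff_bijective.mp hα0)) hadd, hf, hα⟩

end Groth.Agent.DiagRep
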